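import Mathlib

set_option autoImplicit false

namespace Cfsg.Agent.Helper39.VL

open scoped commutatorElement

/-- a subgroup strictly containing a subgroup of prime index is everything. -/
theorem eq_top_of_prime_index_lt {G : Type*} [Group G] {p : ℕ} (hp : p.Prime) {M D : Subgroup G}
    (hM : M.index = p) (hMD : M ≤ D) {y : G} (hyD : y ∈ D) (hyM : y ∉ M) : D = ⊤ := by
  have h1 := Subgroup.relIndex_mul_index hMD
  rw [hM] at h1
  have h2 : M.relIndex D ≠ 1 := by
    intro h
    rw [Subgroup.relIndex_eq_one] at h
    exact hyM (h hyD)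
  have h3 : M.relIndex D ∣ p := ⟨_, h1.symm⟩
  rcases (Nat.dvd_prime hp).mp h3 with h | h
  · exact absurd h h2
  · rw [h] at h1
    have : D.index = 1 := by
      have hp0 := hp.pos
      nlinarith [Nat.eq_of_mul_eq_mul_left hp0 (by rw [h1, mul_one] : p * D.index = p * 1)]
    exact Subgroup.index_eq_one.mp this

/-- (KEY) hedge copy of the skeleton piece `key_centralizer`. -/
theorem key_centralizer' {G : Type*} [Group G] {p : ℕ} [Fact p.Prime] (M : Subgroup G) [M.Normal]
    (hM : M.index = p) (hMG : ⁅M, M⁆ ≠ commutator G) (N : Subgroup G) [N.Normal] (hNM : N ≤ M)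
    (hN : ∀ H : Subgroup G, H ⊔ N = ⊤ → H = ⊤) :
    ∃ R : Subgroup G, N ≤ R ∧ R ≤ M ∧ R ≠ M ∧
      ∀ z ∈ M, z ∉ R → ∀ y : G, Commute z y → y ∈ M := by
  classical
  have hp : p.Prime := Fact.out
  set M' : Subgroup G := ⁅M, M⁆ with hM'
  let mk := QuotientGroup.mk' M'
  have hmk_comm : ∀ a b : G, mk a * mk b = mk b * mk a ↔ ⁅a, b⁆ ∈ M' := by
    intro a b
    rw [← QuotientGroup.eq_one_iff (N := M') ⁅a, b⁆]
    change _ ↔ mk ⁅a, b⁆ = 1
    rw [map_commutatorElement, commutatorElement_eq_one_iff_mul_comm]
  set C : Subgroup G := (Subgroup.center (G ⧸ M')).comap mk with hC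
  have hC_mem : ∀ z : G, z ∈ C ↔ ∀ g : G, mk g * mk z = mk z * mk g := by
    intro z
    rw [hC, Subgroup.mem_comap, Subgroup.mem_center_iff]
    constructor
    · intro h g
      exact h (mk g)
    · intro h q
      obtain ⟨g, rfl⟩ := QuotientGroup.mk'_surjective M' q
      exact h g
  set T : Subgroup G := M ⊓ C with hT
  have hMtop : M ≠ ⊤ := by
    intro h
    rw [h, Subgroup.index_top] at hM
    exact hp.one_lt.ne hM
  refine ⟨T ⊔ N, le_sup_right, sup_le inf_le_left hNM, ?_, ?_⟩
  · -- R ≠ M
    intro hR
    obtain ⟨y, hy⟩ : ∃ y : G, y ∉ M := by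
      by_contra hcon
      push Not at hcon
      exact hMtop (eq_top_iff.mpr fun g _ => hcon g)
    set D : Subgroup G := T ⊔ Subgroup.zpowers y with hD
    have hyD : y ∈ D := (le_sup_right : Subgroup.zpowers y ≤ D) (Subgroup.mem_zpowers y)
    have hDtop : D = ⊤ := by
      apply hN
      have hMle : M ≤ D ⊔ N := by
        rw [← hR]
        exact sup_le (le_sup_of_le_left le_sup_left) le_sup_right
      exact eq_top_of_prime_index_lt hp hM hMle (le_sup_left (a := D) hyD) hy
    -- the centralizer of `mk y`
    set Ey : Subgroup G := (Subgroup.centralizer {mk y}).comap mk with hEy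
    have hTC : T ≤ C := inf_le_right
    have hCE : C ≤ Ey := by
      intro z hz
      rw [hEy, Subgroup.mem_comap, Subgroup.mem_centralizer_singleton_iff]
      exact ((hC_mem z).mp hz y).symm
    have hyE : y ∈ Ey := by
      rw [hEy, Subgroup.mem_comap, Subgroup.mem_centralizer_singleton_iff]
    have hDE : D ≤ Ey := by
      rw [hD]
      refine sup_le (hTC.trans hCE) ?_
      rw [Subgroup.zpowers_le]
      exact hyE
    have hyC : y ∈ C := by
      rw [hC_mem]
      intro g
      have hg : g ∈ Ey := hDE (by rw [hDtop]; trivial)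
      rw [hEy, Subgroup.mem_comap, Subgroup.mem_centralizer_singleton_iff] at hg
      exact hg
    have hDC : D ≤ C := by
      rw [hD]
      refine sup_le hTC ?_
      rw [Subgroup.zpowers_le]
      exact hyC
    have hCtop : ∀ g : G, g ∈ C := fun g => hDC (by rw [hDtop]; trivial)
    apply hMG
    apply le_antisymm
    · rw [commutator_def]
      exact Subgroup.commutator_mono le_top le_top
    · rw [commutator_def, Subgroup.commutator_le]
      intro a _ b _
      rw [← hmk_comm]
      exact ((hC_mem b).mp (hCtop b) a)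
  · -- the centralizer property
    intro z hzM hzR y hzy
    by_contra hyM
    apply hzR
    suffices hzC : z ∈ C from (le_sup_left : T ≤ T ⊔ N) ⟨hzM, hzC⟩
    rw [hC_mem]
    set D : Subgroup G := (Subgroup.centralizer {mk z}).comap mk with hD
    have hMD : M ≤ D := by
      intro m hm
      rw [hD, Subgroup.mem_comap, Subgroup.mem_centralizer_singleton_iff, hmk_comm]
      exact Subgroup.commutator_mem_commutator hm hzM
    have hyD : y ∈ D := by
      rw [hD, Subgroup.mem_comap, Subgroup.mem_centralizer_singleton_iff]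
      have := congrArg mk hzy.eq
      rw [map_mul, map_mul] at this
      exact this.symm
    have hDtop := eq_top_of_prime_index_lt hp hM hMD hyD hyM
    intro g
    have hg : g ∈ D := by rw [hDtop]; trivial
    rw [hD, Subgroup.mem_comap, Subgroup.mem_centralizer_singleton_iff] at hg
    exact hg

end Cfsg.Agent.Helper39.VL
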