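import Cfsg.Agent.Helper39.VL.Key

set_option autoImplicit false

namespace Cfsg.Agent.Helper39.VL

universe u

open Module

theorem natCard_mult_zmod (p : ℕ) : Nat.card (Multiplicative (ZMod p)) = p := by
  rw [Nat.card_congr Multiplicative.toAdd, Nat.card_zmod]

/-- the functional `α ∘ π` as a group hom. -/
noncomputable def dualHom {G : Type u} [Group G] {p : ℕ} {V : Type u} [AddCommGroup V]
    [Module (ZMod p) V] (π : G →* Multiplicative V) (α : Module.Dual (ZMod p) V) :
    G →* Multiplicative (ZMod p) :=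
  (AddMonoidHom.toMultiplicative α.toAddMonoidHom).comp π

theorem dualHom_apply {G : Type u} [Group G] {p : ℕ} {V : Type u} [AddCommGroup V]
    [Module (ZMod p) V] (π : G →* Multiplicative V) (α : Module.Dual (ZMod p) V) (g : G) :
    dualHom π α g = Multiplicative.ofAdd (α (π g).toAdd) := rfl

theorem mem_ker_dualHom {G : Type u} [Group G] {p : ℕ} {V : Type u} [AddCommGroup V]
    [Module (ZMod p) V] (π : G →* Multiplicative V) (α : Module.Dual (ZMod p) V) (g : G) :
    g ∈ (dualHom π α).ker ↔ α (π g).toAdd = 0 := by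
  rw [MonoidHom.mem_ker, dualHom_apply]
  exact ofAdd_eq_one

theorem key_space {G : Type u} [Group G] [Finite G] {p : ℕ} [Fact p.Prime]
    (hA : ∀ M : Subgroup G, M ≠ ⊤ → ⁅M, M⁆ ≠ commutator G)
    {V : Type u} [AddCommGroup V] [Module (ZMod p) V] [Finite V] (π : G →* Multiplicative V)
    (hπ : Function.Surjective π) (hng : ∀ H : Subgroup G, H ⊔ π.ker = ⊤ → H = ⊤)
    (α : Module.Dual (ZMod p) V) (hα : α ≠ 0) :
    ∃ r : Submodule (ZMod p) V, r ≤ LinearMap.ker α ∧ Nat.card r * p ^ 2 ≤ Nat.card V ∧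
      ∀ z y : G, α (π z).toAdd = 0 → (π z).toAdd ∉ r → Commute z y → α (π y).toAdd = 0 := by
  classical
  have hp : p.Prime := Fact.out
  have : NeZero p := ⟨hp.ne_zero⟩
  set f := dualHom π α with hfdef
  have hαs : Function.Surjective α := by
    have : ∃ v, α v ≠ 0 := by
      by_contra hcon
      push Not at hcon
      exact hα (LinearMap.ext hcon)
    obtain ⟨v, hv⟩ := this
    intro c
    refine ⟨(c * (α v)⁻¹) • v, ?_⟩
    rw [map_smul, smul_eq_mul, mul_assoc, inv_mul_cancel₀ hv, mul_one]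
  have hfsurj : Function.Surjective f := by
    intro c
    obtain ⟨v, hv⟩ := hαs c.toAdd
    obtain ⟨g, hg⟩ := hπ (Multiplicative.ofAdd v)
    refine ⟨g, ?_⟩
    rw [hfdef, dualHom_apply, hg, toAdd_ofAdd, hv, ofAdd_toAdd]
  have hMidx : f.ker.index = p := by
    rw [Subgroup.index_ker, MonoidHom.range_eq_top.mpr hfsurj, Subgroup.card_top,
      natCard_mult_zmod]
  have hNM : π.ker ≤ f.ker := by
    intro g hg
    rw [mem_ker_dualHom, MonoidHom.mem_ker.mp hg]
    simp
  have hMtop : f.ker ≠ ⊤ := by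
    intro h
    rw [h, Subgroup.index_top] at hMidx
    exact hp.one_lt.ne hMidx
  obtain ⟨R, hNR, hRM, hRne, hR⟩ := key_centralizer' f.ker hMidx (hA _ hMtop) π.ker hNM hng
  let r : Submodule (ZMod p) V :=
    { carrier := {v | ∃ g ∈ R, (π g).toAdd = v}
      add_mem' := by
        rintro _ _ ⟨g, hg, rfl⟩ ⟨h, hh, rfl⟩
        exact ⟨g * h, R.mul_mem hg hh, by simp⟩
      zero_mem' := ⟨1, R.one_mem, by simp⟩
      smul_mem' := by
        rintro c _ ⟨g, hg, rfl⟩
        refine ⟨g ^ c.val, R.pow_mem hg _, ?_⟩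
        rw [map_pow, toAdd_pow, ← Nat.cast_smul_eq_nsmul (ZMod p), ZMod.natCast_zmod_val] }
  have hr_mem : ∀ v, v ∈ r ↔ ∃ g ∈ R, (π g).toAdd = v := fun v => Iff.rfl
  have hr_of : ∀ g, (π g).toAdd ∈ r → g ∈ R := by
    intro g hg
    obtain ⟨h, hh, hhg⟩ := (hr_mem _).mp hg
    have : h⁻¹ * g ∈ π.ker := by
      rw [MonoidHom.mem_ker, map_mul, map_inv]
      have : π h = π g := by
        have := congrArg Multiplicative.ofAdd hhg
        simpa using this
      rw [this, inv_mul_cancel]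
    have := R.mul_mem hh (hNR this)
    simpa using this
  have hr1 : r ≤ LinearMap.ker α := by
    rintro _ ⟨g, hg, rfl⟩
    rw [LinearMap.mem_ker]
    exact (mem_ker_dualHom π α g).mp (hRM hg)
  have hr_lt : r < LinearMap.ker α := by
    refine lt_of_le_of_ne hr1 ?_
    intro heq
    obtain ⟨m, hmM, hmR⟩ := SetLike.exists_of_lt (lt_of_le_of_ne hRM hRne)
    apply hmR
    apply hr_of
    rw [heq, LinearMap.mem_ker]
    exact (mem_ker_dualHom π α m).mp hmM
  refine ⟨r, hr1, ?_, ?_⟩
  · have h1 := Submodule.finrank_lt_finrank_of_lt hr_lt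
    have h2 := Dual.finrank_ker_add_one_of_ne_zero hα
    have h3 : Nat.card r = p ^ finrank (ZMod p) r := by
      rw [Module.natCard_eq_pow_finrank (K := ZMod p), Nat.card_zmod]
    have h4 : Nat.card V = p ^ finrank (ZMod p) V := by
      rw [Module.natCard_eq_pow_finrank (K := ZMod p), Nat.card_zmod]
    rw [h3, h4, ← pow_add]
    exact Nat.pow_le_pow_right hp.pos (by omega)
  · intro z y hz hzr hzy
    have hzM : z ∈ f.ker := (mem_ker_dualHom π α z).mpr hz
    have hzR : z ∉ R := fun h => hzr ⟨z, h, rfl⟩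
    exact (mem_ker_dualHom π α y).mp (hR z hzM hzR y hzy)

end Cfsg.Agent.Helper39.VL
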