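import Cfsg.Agent.Helper39.VL.KeySpace
import Cfsg.Agent.Helper38.VL.Defs

set_option autoImplicit false

namespace Cfsg.Agent.Helper39.VL

universe u

open Module

/-- enlarge a proper subspace of `T` to a hyperplane of `T`. -/
theorem exists_hyperplane_between {K : Type*} [Field K] {W : Type*} [AddCommGroup W] [Module K W]
    [FiniteDimensional K W] {S T : Submodule K W} (hST : S < T) :
    ∃ S' : Submodule K W, S ≤ S' ∧ S' ≤ T ∧ finrank K S' + 1 = finrank K T := by
  have hlt : S.comap T.subtype < ⊤ := by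
    rw [lt_top_iff_ne_top, Ne, Submodule.comap_subtype_eq_top]
    exact not_le_of_gt hST
  obtain ⟨f, hf0, hf⟩ := Submodule.exists_le_ker_of_lt_top _ hlt
  refine ⟨(LinearMap.ker f).map T.subtype, ?_, ?_, ?_⟩
  · intro s hs
    exact ⟨⟨s, hST.le hs⟩, hf (by simpa using hs), rfl⟩
  · rintro _ ⟨t, _, rfl⟩
    exact t.2
  · rw [Submodule.finrank_map_subtype_eq]
    exact Dual.finrank_ker_add_one_of_ne_zero hf0

/-- The linear model (same conclusion as helper38's `linear_model_of_key` applied to
`exists_R_of_maximal`), obtained from `key_centralizer`. -/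
theorem linear_model {G : Type u} [Group G] [Finite G] {p : ℕ} [Fact p.Prime]
    (hcrit : Cfsg.Agent.Helper38.VL.Critical G)
    {V : Type u} [AddCommGroup V] [Module (ZMod p) V] [Finite V]
    (π : G →* Multiplicative V) (hπ : Function.Surjective π) (hker : π.ker = frattini G) :
    ∃ R : Module.Dual (ZMod p) V → Submodule (ZMod p) V,
      (∀ α : Module.Dual (ZMod p) V, α ≠ 0 → R α ≤ LinearMap.ker α ∧
        Module.finrank (ZMod p) (R α) + 2 = Module.finrank (ZMod p) V) ∧
      (∀ α : Module.Dual (ZMod p) V, α ≠ 0 → ∀ x y : G, α (π x).toAdd = 0 →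
        (π x).toAdd ∉ R α → Commute x y → α (π y).toAdd = 0) := by
  classical
  have hp : p.Prime := Fact.out
  have hA : ∀ M : Subgroup G, M ≠ ⊤ → ⁅M, M⁆ ≠ commutator G := by
    intro M hM
    rw [← Subgroup.map_subtype_commutator]
    exact hcrit M hM
  have hng : ∀ H : Subgroup G, H ⊔ π.ker = ⊤ → H = ⊤ := by
    intro H hH
    rw [hker] at hH
    exact frattini_nongenerating hH
  have hkey : ∀ α : Module.Dual (ZMod p) V, α ≠ 0 → ∃ r' : Submodule (ZMod p) V,
      (r' ≤ LinearMap.ker α ∧ finrank (ZMod p) r' + 2 = finrank (ZMod p) V) ∧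
      ∀ x y : G, α (π x).toAdd = 0 → (π x).toAdd ∉ r' → Commute x y → α (π y).toAdd = 0 := by
    intro α hα
    obtain ⟨r, hr1, hr2, hr3⟩ := key_space hA π hπ hng α hα
    have hk := Dual.finrank_ker_add_one_of_ne_zero hα
    have hlt : r < LinearMap.ker α := by
      refine lt_of_le_of_ne hr1 ?_
      intro heq
      have h3 : Nat.card r = p ^ finrank (ZMod p) r := by
        rw [Module.natCard_eq_pow_finrank (K := ZMod p), Nat.card_zmod]
      have h4 : Nat.card V = p ^ finrank (ZMod p) V := by
        rw [Module.natCard_eq_pow_finrank (K := ZMod p), Nat.card_zmod]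
      rw [h3, h4, ← pow_add, Nat.pow_le_pow_iff_right hp.one_lt, heq] at hr2
      omega
    obtain ⟨r', h1, h2, h3⟩ := exists_hyperplane_between hlt
    refine ⟨r', ⟨h2, by omega⟩, ?_⟩
    intro x y hx hxr hxy
    exact hr3 x y hx (fun h => hxr (h1 h)) hxy
  choose! R hR1 hR2 using hkey
  exact ⟨R, hR1, hR2⟩

end Cfsg.Agent.Helper39.VL
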